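import Cfsg.Agent.Lib.MonsterThreeNorm.Perfect
import Cfsg.Prelude.Def_FischerSpaces
import Cfsg.Prelude.Def_Spor_Fi24

/-!
# The three parts of the statement on the 3-central normaliser

* `normalizer_fischer` : given the recognition of the derived group of Fi24 from an involution centraliser
  and of the 3-transposition class in the extension
-/

set_option autoImplicit false
open Cfsg

namespace Cfsg.Agent.MonsterThree

universe u

/-- The recognition of the simple group. -/
def RecogSimple : Prop :=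
  ∀ {G : Type u} [Group G] [Finite G] (z : G) (Q : Subgroup (Subgroup.centralizer ({z} : Set G))) [Q.Normal],
    Cfsg.IsOfLargeFischerTypeAt z Q → Cfsg.Spor.IsoFi24' G

/-- The recognition of the extension. -/
def RecogExtension : Prop :=
  ∀ {X : Type u} [Group X] [Finite X] (G₀ : Subgroup X), G₀.index = 2 →
    ∀ (z : ↥G₀) (Q : Subgroup (Subgroup.centralizer ({z} : Set ↥G₀))) [Q.Normal],
      Cfsg.IsOfLargeFischerTypeAt z Q →
      (∃ P : Sylow 2 ↥G₀, z ∈ (P : Subgroup ↥G₀) ∧ ∀ x ∈ (P : Subgroup ↥G₀), Commute x z) →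
      (Cfsg.generalizedFittingSubgroup ↥(Subgroup.centralizer ({(z : X)} : Set X))).map (Subgroup.subtype _) =
        ((Q.map (Subgroup.subtype _)).map G₀.subtype) →
      ∃ E : Set X, Cfsg.IsThreeTranspositionClass E ∧ Cfsg.IsOfTypeM24 X E

theorem normalizer_fischer (hA : RecogSimple.{u}) (hB : RecogExtension.{u}) {G : Type u} [Group G] [Finite G]
    (X : Ctx G) {Y : Subgroup G} (hY : Subgroup.zpowers X.b = Y)
    [hn : (Y.subgroupOf (Subgroup.centralizer (Y : Set G))).Normal]
    [hn' : (Y.subgroupOf (Subgroup.normalizer (Y : Set G))).Normal] :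
    Cfsg.IsQuasisimple ↥(Subgroup.centralizer (Y : Set G)) ∧
      Cfsg.Spor.IsoFi24' (↥(Subgroup.centralizer (Y : Set G)) ⧸ Y.subgroupOf (Subgroup.centralizer (Y : Set G))) ∧
      ∃ E : Set (↥(Subgroup.normalizer (Y : Set G)) ⧸ Y.subgroupOf (Subgroup.normalizer (Y : Set G))),
        Cfsg.IsThreeTranspositionClass E ∧ Cfsg.IsOfTypeM24 _ E := by
  obtain ⟨G₀, hidx, -, z₀, Q₀, hQn, hAt, hcen, hFX⟩ := X.normalizer_data hY
  subst hY
  obtain ⟨zc, -, R, hR, hT, -⟩ := fischer_at X (centralizer_zpowers X.b)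
    (QuotientGroup.mk' ((Subgroup.zpowers X.b).subgroupOf (Subgroup.centralizer (Subgroup.zpowers X.b : Set G))))
    (QuotientGroup.mk'_surjective _) fun c => by
      rw [QuotientGroup.mk'_apply, QuotientGroup.eq_one_iff, Subgroup.mem_subgroupOf]
  have hiso : Cfsg.Spor.IsoFi24' (↥(Subgroup.centralizer (Subgroup.zpowers X.b : Set G)) ⧸
      (Subgroup.zpowers X.b).subgroupOf (Subgroup.centralizer (Subgroup.zpowers X.b : Set G))) :=
    hA _ R hT
  refine ⟨quasisimple_of_quotient (fun a ha => Subgroup.mem_center_iff.2 fun x => Subtype.ext ?_)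
    (fun a ha => ?_) hiso, hiso, hB G₀ hidx z₀ Q₀ hAt hcen hFX⟩
  · exact (Subgroup.mem_centralizer_iff.1 x.2 (a : G) (Subgroup.mem_subgroupOf.1 ha)).symm
  · have hb : X.b ∈ ⁅Subgroup.centralizer (Subgroup.zpowers X.b : Set G),
        Subgroup.centralizer (Subgroup.zpowers X.b : Set G)⁆ :=
      X.b_mem_commutator fun x hx => mem_centralizer_zpowers.2 hx
    rw [← Subgroup.map_subtype_commutator] at hb
    have h := Subgroup.zpowers_le.2 hb (Subgroup.mem_subgroupOf.1 ha)
    obtain ⟨c, hc, e⟩ := h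
    rwa [← Subtype.ext e]

end Cfsg.Agent.MonsterThree
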