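import Cfsg.Agent.Lib.MonsterThreeNorm.Outer

/-!
# An element of C(z) inverting b, and what it does to Q ∩ C(b)

* `Ctx.exists_inverting` : some element of C(z) inverts b
* `Ctx.not_centralizing` : it does not centralise Q ∩ C(b)
* `Ctx.not_two_power` : it is not of 2-power order modulo ⟨b⟩ with all commutators with C(z) ∩ C(b)
  in (Q ∩ C(b))⟨b⟩
-/

set_option autoImplicit false
open Cfsg

namespace Cfsg.Agent.MonsterThree

open Leech MonsterLattice Monster LargeExtraspecial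

theorem pow_trivial (j n : ℕ) : Cg ((g3 ^ j) • cls n) (cls n) := by
  induction j with
  | zero => rw [pow_zero, one_smul]; exact cg_refl _
  | succ j ih => rw [pow_succ, mul_smul, g3_cls]; exact ih

theorem pow_trivial' {v : leechLattice} (hv : Fix3 v) : ∀ j : ℕ, Cg ((g3 ^ j) • v) v
  | 0 => by rw [pow_zero, one_smul]; exact cg_refl _
  | j + 1 => by rw [pow_succ, mul_smul]; exact ((hv.smul _).trans (pow_trivial' hv j))

theorem cg_of_mk_eq {x y : Co0} (h : (QuotientGroup.mk x : Spor.Co1) = QuotientGroup.mk y) (v : leechLattice) :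
    Cg (x • v) (y • v) := by
  have h1 : x⁻¹ * y ∈ Subgroup.center Co0 := QuotientGroup.eq.1 h
  have e : y = x * (x⁻¹ * y) := by group
  rcases Leech.center_eq h1 with e1 | e1 <;> rw [e, e1]
  · rw [mul_one]; exact cg_refl _
  · rw [mul_smul, negOne_smul]
    exact (MonsterLattice.Cg.neg v).smul x

namespace Ctx

variable {G : Type*} [Group G] (X : Ctx G)

theorem exists_inverting [Finite G] : ∃ t : G, t ∈ Subgroup.centralizer ({X.z} : Set G) ∧ t * X.b * t⁻¹ = X.b⁻¹ := by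
  haveI : Fact (Nat.Prime 3) := ⟨Nat.prime_three⟩
  haveI : Fact (Nat.Prime 2) := ⟨Nat.prime_two⟩
  obtain ⟨η, hη⟩ := exists_invert
  obtain ⟨h, hh⟩ := X.M.exists_lift η
  set gb := (QuotientGroup.mk g3 : Spor.Co1) with hgb
  set P := (Subgroup.zpowers gb).comap X.M.κ
  have hκb : X.M.κ X.bC = gb := X.hκ
  have hconj : X.M.κ (h * X.bC * h⁻¹) = gb * gb := by
    rw [map_mul, map_mul, map_inv, ← hh, hκb, hgb, ← QuotientGroup.mk_inv,
      ← QuotientGroup.mk_mul, ← QuotientGroup.mk_mul, hη, mul_inv_cancel_right, QuotientGroup.mk_mul]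
  have hPc : (Nat.card P).factorization 3 = 1 := by
    have h1 := natCard_map_mul X.M.κ P
    rw [Subgroup.map_comap_eq_self_of_surjective X.M.κ_surj, Nat.card_zpowers, hgb, mk_g3_order] at h1
    obtain ⟨n, hn⟩ := IsPGroup.iff_card.mp
      (((LargeExtraspecial.isPGroup_of_extraspecial X.M.extra).comap_subtype
      (K := Subgroup.centralizer ({X.z} : Set G))).to_le
      (le_trans inf_le_right fun x hx => (X.M.κ_ker x).1 hx : (P ⊓ X.M.κ.ker) ≤ _))
    rw [hn] at h1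
    rw [← h1]
    refine factorization_eq Nat.prime_three (by positivity) (Dvd.dvd.mul_right (by norm_num) _) ?_
    intro h9
    have := (Nat.Coprime.pow_right n (by norm_num : Nat.Coprime (3 ^ 2) 2)).dvd_of_dvd_mul_right h9
    norm_num at this
  have hbC3 : orderOf X.bC = 3 := by rw [bC, Subgroup.orderOf_mk, X.hb3]
  obtain ⟨m, hm, hmap⟩ := exists_conj_of_card (p := 3) P
    (A := Subgroup.zpowers (h * X.bC * h⁻¹)) (B := Subgroup.zpowers X.bC)
    (Subgroup.zpowers_le.2 (Subgroup.mem_comap.2 (hconj ▸ mul_mem (Subgroup.mem_zpowers _) (Subgroup.mem_zpowers _))))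
    (Subgroup.zpowers_le.2 (Subgroup.mem_comap.2 (hκb ▸ Subgroup.mem_zpowers _)))
    (by rw [hPc, Nat.card_zpowers, show h * X.bC * h⁻¹ = MulAut.conj h X.bC from rfl,
      MulEquiv.orderOf_eq, hbC3, pow_one])
    (by rw [hPc, Nat.card_zpowers, hbC3, pow_one])
  have hmem : m * (h * X.bC * h⁻¹) * m⁻¹ ∈ Subgroup.zpowers X.bC :=
    hmap ▸ ⟨_, Subgroup.mem_zpowers _, rfl⟩
  obtain ⟨i, hi⟩ := Subgroup.mem_zpowers_iff.1 (Subgroup.mem_comap.1 hm)
  obtain ⟨j, hj⟩ := Subgroup.mem_zpowers_iff.1 hmem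
  have hjk : gb ^ j = gb ^ (2 : ℤ) := by
    rw [← hκb, ← map_zpow, hj, map_mul, map_mul, map_inv, hconj, ← hi, hκb]
    group
  have hmod := zpow_eq_zpow_iff_modEq.1 hjk
  rw [hgb, mk_g3_order] at hmod
  have e : m * h * X.bC * (m * h)⁻¹ = X.bC⁻¹ := by
    calc m * h * X.bC * (m * h)⁻¹ = m * (h * X.bC * h⁻¹) * m⁻¹ := by group
      _ = X.bC ^ (2 : ℤ) := by rw [← hj, zpow_eq_zpow_iff_modEq, hbC3]; exact hmod
      _ = X.bC⁻¹ := eq_inv_of_mul_eq_one_left (by
          rw [← zpow_add_one, show (2 : ℤ) + 1 = ((3 : ℕ) : ℤ) by norm_num, zpow_natCast, ← hbC3, pow_orderOf_eq_one])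
  exact ⟨(m * h : Subgroup.centralizer ({X.z} : Set G)), (m * h).2,
    by simpa [bC] using congrArg Subtype.val e⟩

theorem exists_etaInv {t : G} (ht : t ∈ Subgroup.centralizer ({X.z} : Set G))
    (htb : t * X.b * t⁻¹ = X.b⁻¹) : ∃ η : Co0, η * g3 = g3 * g3 * η ∧
      (QuotientGroup.mk η : Spor.Co1) = X.M.κ ⟨t, ht⟩ := by
  obtain ⟨η, hη⟩ := QuotientGroup.mk_surjective (X.M.κ ⟨t, ht⟩)
  refine ⟨η, ?_, hη⟩
  have h1 : (QuotientGroup.mk (η * g3 * η⁻¹ * g3) : Spor.Co1) = 1 := by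
    rw [QuotientGroup.mk_mul, QuotientGroup.mk_mul, QuotientGroup.mk_mul, QuotientGroup.mk_inv,
      hη, ← X.hκ, ← map_inv, ← map_mul, ← map_mul, ← map_mul]
    convert map_one X.M.κ using 2
    refine Subtype.ext ?_
    show t * X.b * t⁻¹ * X.b = 1
    rw [htb, inv_mul_cancel]
  have hgi : g3⁻¹ = g3 * g3 := inv_eq_of_mul_eq_one_right (by rw [← mul_assoc, ← g3_cube, pow_succ, pow_two])
  rcases Leech.center_eq ((QuotientGroup.eq_one_iff _).1 h1) with e | e
  · rw [← hgi]; exact mul_inv_eq_iff_eq_mul.1 (eq_inv_of_mul_eq_one_left e)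
  · exfalso
    have h2 : η * g3 * η⁻¹ = negOne * g3⁻¹ := by rw [← e, mul_inv_cancel_right]
    have h3 := congrArg (· ^ 3) h2
    simp only [conj_pow, g3_cube, mul_one, mul_inv_cancel] at h3
    rw [(show Commute negOne g3⁻¹ from
      ((Subgroup.mem_center_iff.1 Leech.negOne_mem_center) g3⁻¹).symm).mul_pow, inv_pow, g3_cube, inv_one,
      mul_one, show negOne ^ 3 = negOne * negOne * negOne by rw [pow_succ, pow_two], negOne_mul_negOne,
      one_mul] at h3
    exact negOne_ne h3.symm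

theorem not_centralizing {t : G} (ht : t ∈ Subgroup.centralizer ({X.z} : Set G))
    (htb : t * X.b * t⁻¹ = X.b⁻¹) :
    ¬ ∀ q ∈ X.Q ⊓ Subgroup.centralizer ({X.b} : Set G), t * q = q * t := by
  intro h
  obtain ⟨η, hη, hκ⟩ := X.exists_etaInv ht htb
  refine not_trivial_of_invert hη fun n hn => ?_
  have h1 := X.M.rel_equiv η ⟨t, ht⟩ hκ (X.rel_lift n)
  rw [h _ (X.mem_R0_iff.2 ⟨n, hn, X.rel_lift n⟩), mul_inv_cancel_right] at h1
  exact (X.M.rel_cg h1 (X.rel_lift n)).2 (Or.inl rfl)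

theorem not_two_power [Finite G] {t : G} (ht : t ∈ Subgroup.centralizer ({X.z} : Set G))
    (htb : t * X.b * t⁻¹ = X.b⁻¹)
    (hc : ∀ a : X.T, ∃ q ∈ X.Q ⊓ Subgroup.centralizer ({X.b} : Set G), ∃ j : ℕ,
      (a : G) * t * (a : G)⁻¹ * t⁻¹ = q * X.b ^ j)
    {k : ℕ} (hk : t ^ 2 ^ k ∈ Subgroup.zpowers X.b) : False := by
  obtain ⟨η, hη, hκ⟩ := X.exists_etaInv ht htb
  refine not_commute_of_invert hη (fun a n hn => ?_) k fun n hn => ?_
  · obtain ⟨u, hu⟩ := X.exists_T a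
    obtain ⟨q, hq, j, hj⟩ := hc u
    have hqz : q ∈ Subgroup.centralizer ({X.z} : Set G) := X.M.mem_centralizer hq.1
    have e : X.M.κ (⟨u, u.2.1⟩ * ⟨t, ht⟩) = X.M.κ (⟨q, hqz⟩ * X.bC ^ j * (⟨t, ht⟩ * ⟨u, u.2.1⟩)) := by
      congr 1
      refine Subtype.ext ?_
      show (u : G) * t = q * ((X.bC ^ j : Subgroup.centralizer ({X.z} : Set G)) : G) * (t * (u : G))
      rw [SubmonoidClass.coe_pow, show ((X.bC : Subgroup.centralizer ({X.z} : Set G)) : G) = X.b from rfl, ← hj]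
      group
    rw [map_mul, map_mul, map_mul, map_pow, map_mul, (X.M.κ_ker ⟨q, hqz⟩).2 hq.1, one_mul, ← hu, ← hκ,
      show X.M.κ X.bC = _ from X.hκ, ← QuotientGroup.mk_pow, ← QuotientGroup.mk_mul, ← QuotientGroup.mk_mul,
      ← QuotientGroup.mk_mul] at e
    refine (cg_of_mk_eq e _).trans ?_
    rw [mul_smul]
    refine pow_trivial' ?_ j
    rw [mul_smul]
    exact fix_smul_invert hη (fix_smul a.2 (fix_cls n))
  · obtain ⟨i, hi⟩ := (mem_powers_iff_mem_zpowers.2 hk : t ^ 2 ^ k ∈ Submonoid.powers X.b)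
    have e : X.M.κ (⟨t, ht⟩ ^ 2 ^ k) = X.M.κ (X.bC ^ i) := congrArg X.M.κ (Subtype.ext (by
      rw [SubmonoidClass.coe_pow, SubmonoidClass.coe_pow]; exact hi.symm))
    rw [map_pow, map_pow, ← hκ, show X.M.κ X.bC = _ from X.hκ, ← QuotientGroup.mk_pow,
      ← QuotientGroup.mk_pow] at e
    exact (cg_of_mk_eq e _).trans (pow_trivial i n)

end Ctx

end Cfsg.Agent.MonsterThree
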