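import Cfsg.Agent.Lib.MonsterThree.Fischer

/-!
# Elements inverting the element of order three

* `exists_invert` : some element inverts `g3`
* `not_trivial_of_invert` : such an element moves a fixed class
* `not_commute_of_invert` : such an element of 2-power order on the classes does not commute with the
  action of the centraliser
-/

set_option autoImplicit false
set_option maxRecDepth 100000
open Cfsg

namespace Cfsg.Agent.MonsterThree

open Leech MonsterLattice GolayClasses
open Golay (bpt idx_bpt mem_chain)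
open MonsterSeven (mono_comm Cg.add')

/-- A permutation inverting the representative. -/
def invPerm : ℕ := 0xd994599cd7c6159a547448a418ae0

/-- A permutation moving five fixed points of the representative to the base. -/
def tauPerm : ℕ := 0x4b4d054eb4b0e4559e2c7b84105d04

/-- The representative moved by it. -/
def movedRep : ℕ := 0xbb2ad350abb464f5408999dc818820

theorem invPerm_chk : Golay.isAut invPerm = true ∧ ∀ i < 24,
    Golay.fn invPerm (Golay.fn threeRepA i) = Golay.fn threeRepA (Golay.fn threeRepA (Golay.fn invPerm i)) := by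
  decide +kernel

theorem tauPerm_chk : Golay.isAut tauPerm = true ∧ (∀ i < 24,
    Golay.fn tauPerm (Golay.fn threeRepA i) = Golay.fn movedRep (Golay.fn tauPerm i)) ∧
    (∀ i ∈ [2, 3, 4, 5, 14, 17], Golay.fn threeRepA i = i) ∧
    (∀ k < 5, Golay.fn tauPerm ([2, 3, 4, 5, 14].getD k 0) = Golay.baseIdx.getD k 0) ∧
    Golay.fn tauPerm 17 = 21 := by
  decide +kernel

theorem cand_chk : ((tails 2).all fun ds => app ds 21 != 21 || (List.range 24).all fun i =>
    app ds (Golay.fn movedRep i) == Golay.fn movedRep (app ds i)) = true := by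
  decide +kernel

/-- The inverting permutation. -/
noncomputable def invM : M24 := ⟨Golay.toPerm invPerm, Golay.toPerm_mem_M24 invPerm_chk.1⟩

theorem invM_threeM : invM * threeM = threeM * threeM * invM := by
  have hv := Golay.validPerm_of_isAut invPerm_chk.1
  refine Subtype.ext (Equiv.ext fun p => Golay.idx_injective ?_)
  simp only [Subgroup.coe_mul, Equiv.Perm.mul_apply]
  rw [invM, Golay.idx_toPerm hv, idx_threeM, idx_threeM, idx_threeM, Golay.idx_toPerm hv]
  exact invPerm_chk.2 _ (Golay.idx_lt p)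

theorem exists_invert : ∃ η : Co0, η * g3 = g3 * g3 * η :=
  ⟨permHom invM, by rw [g3, ← map_mul, invM_threeM, map_mul, map_mul]⟩

theorem threeM_ne_one : threeM ≠ 1 := fun h => by
  have := congrArg (fun m : M24 => Golay.idx (m.1 (Golay.pt 23))) h
  simp only [idx_threeM, OneMemClass.coe_one, Equiv.Perm.one_apply] at this
  rw [Golay.idx_pt (by norm_num), repA_base.1] at this
  norm_num at this

/-- An element fixing the six fixed points commutes with the representative. -/
theorem commute_of_fix {σ : Equiv.Perm GolayPt} (hσ : σ ∈ M24)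
    (h : ∀ i ∈ [2, 3, 4, 5, 14, 17], σ (Golay.pt i) = Golay.pt i) : σ * threeM.1 = threeM.1 * σ := by
  obtain ⟨haut, hconj, -, hbase, hsix⟩ := tauPerm_chk
  set τ := Golay.toPerm tauPerm with hτ
  have hv := Golay.validPerm_of_isAut haut
  have hτM : τ ∈ M24 := Golay.toPerm_mem_M24 haut
  have hmove : ∀ i < 24, (∀ p, Golay.idx p = i → σ p = p) → ∀ q, Golay.idx q = Golay.fn tauPerm i →
      (τ * σ * τ⁻¹) q = q := by
    intro i hi hfix q hq
    have e : q = τ (Golay.pt i) := Golay.idx_injective (by rw [hq, hτ, Golay.idx_toPerm hv, Golay.idx_pt hi])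
    rw [e, Equiv.Perm.mul_apply, Equiv.Perm.mul_apply, Equiv.Perm.inv_def, Equiv.symm_apply_apply,
      hfix _ (Golay.idx_pt hi)]
  have hfix : ∀ i ∈ [2, 3, 4, 5, 14, 17], ∀ p, Golay.idx p = i → σ p = p := fun i hi p hp => by
    rw [show p = Golay.pt i by rw [← hp, Golay.pt_idx]]
    exact h i hi
  obtain ⟨ds, hds, hval⟩ := exists_tail 2 (by norm_num) (τ * σ * τ⁻¹)
    (mem_chain.2 ⟨mul_mem (mul_mem hτM hσ) (inv_mem hτM), fun k hk => by
      have hk5 : k < 5 := hk
      have hmem : [2, 3, 4, 5, 14].getD k 0 ∈ [2, 3, 4, 5, 14, 17] ∧ [2, 3, 4, 5, 14].getD k 0 < 24 := by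
        interval_cases k <;> decide
      exact hmove _ hmem.2 (hfix _ hmem.1) _ (by rw [idx_bpt k (by omega), hbase k hk5])⟩)
  have h21 : app ds 21 = 21 := by
    have := hval (Golay.pt 21)
    rw [hmove 17 (by norm_num) (hfix 17 (by decide)) _ (by rw [Golay.idx_pt (by norm_num), hsix]),
      Golay.idx_pt (by norm_num)] at this
    exact this.symm
  have hc := List.all_eq_true.1 cand_chk ds hds
  simp only [h21, bne_self_eq_false, Bool.false_or, List.all_eq_true, List.mem_range, beq_iff_eq] at hc
  have hT : ∀ p, Golay.idx (τ (threeM.1 p)) = Golay.fn movedRep (Golay.idx (τ p)) := fun p => by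
    rw [hτ, Golay.idx_toPerm hv, idx_threeM, hconj _ (Golay.idx_lt p), Golay.idx_toPerm hv]
  refine Equiv.ext fun p => τ.injective (Golay.idx_injective ?_)
  have e : ∀ q, Golay.idx (τ (σ q)) = app ds (Golay.idx (τ q)) := fun q => by
    rw [← hval (τ q), Equiv.Perm.mul_apply, Equiv.Perm.mul_apply, Equiv.Perm.inv_def, Equiv.symm_apply_apply]
  rw [Equiv.Perm.mul_apply, Equiv.Perm.mul_apply, e, hT, hc _ (Golay.idx_lt _), ← e, hT]

theorem fix_smul_invert {η : Co0} (hη : η * g3 = g3 * g3 * η) {v : leechLattice} (h : Fix3 v) :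
    Fix3 (η • v) := by
  have h2 : Cg ((g3 * g3) • v) v := by rw [mul_smul]; exact (h.smul g3).trans h
  have e : g3 * η = η * (g3 * g3) := by
    calc g3 * η = g3 ^ 3 * g3 * η := by rw [g3_cube, one_mul]
      _ = g3 * g3 * (g3 * g3 * η) := by simp only [pow_succ, pow_zero, one_mul, mul_assoc]
      _ = g3 * g3 * (η * g3) := by rw [hη]
      _ = (g3 * g3 * η) * g3 := by group
      _ = η * (g3 * g3) := by rw [← hη, mul_assoc]
  show Cg (g3 • η • v) (η • v)
  rw [← mul_smul, e, mul_smul]
  exact h2.smul η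

/-- An inverting element moves a fixed class. -/
theorem not_trivial_of_invert {η : Co0} (hη : η * g3 = g3 * g3 * η) :
    ¬ ∀ n < 4096, Cg (η • cls n) (cls n) := by
  intro hall
  have hfixed : ∀ v : leechLattice, Fix3 v → Cg (η • v) v := fun v hv => by
    obtain ⟨n, hn, hc⟩ := exists_code hv
    exact ((hc.smul η).trans (hall n hn)).trans hc.symm
  have hst : η ∈ stdStab := by
    rw [← clsStab_eightVec, mem_clsStab]; exact hfixed _ fix_eightVec
  obtain ⟨σ, hσ, c, hc, rfl⟩ := exists_mono_of_mem hst
  rw [g3, ← map_mul] at hη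
  obtain ⟨hinv, -⟩ := mono_comm hσ hc hη
  obtain ⟨-, -, hfx, -, -⟩ := tauPerm_chk
  have hpair : ∀ i ∈ [2, 3, 4, 5, 14, 17], ∀ j ∈ [2, 3, 4, 5, 14, 17], i ≠ j →
      σ.symm (Golay.pt i) = Golay.pt i ∨ σ.symm (Golay.pt i) = Golay.pt j := by
    intro i hi j hj hij
    have hlt : ∀ i ∈ [2, 3, 4, 5, 14, 17], i < 24 := by decide
    have hne : Golay.pt i ≠ Golay.pt j := fun e => hij (by
      rw [← Golay.idx_pt (hlt i hi), e, Golay.idx_pt (hlt j hj)])
    set v := pairVec (Golay.pt i) (Golay.pt j) 1 1 (by norm_num) with hv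
    have hn : sqNorm (v : GolayPt → ℤ) = 32 := sqNorm_pairVec hne _ (Or.inl rfl) (Or.inl rfl)
    have hsymm : ∀ p, threeM.1 p = p → threeM.1.symm p = p := fun p hp => by
      rw [Equiv.symm_apply_eq, hp]
    have hpt : ∀ i ∈ [2, 3, 4, 5, 14, 17], threeM.1 (Golay.pt i) = Golay.pt i := fun i hi =>
      Golay.idx_injective (by rw [idx_threeM, Golay.idx_pt (hlt i hi), hfx i hi])
    have hF : Fix3 v := by
      have e : g3 • v = v := Subtype.ext (funext fun p => by
        rw [g3, MonsterSeven.vec_perm, hv, coe_pairVec]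
        simp only [Pi.add_apply, Pi.single_apply, Equiv.symm_apply_eq, hpt i hi, hpt j hj])
      show Cg (g3 • v) v
      rw [e]; exact cg_refl _
    have hne0 : (v : GolayPt → ℤ) (σ.symm (Golay.pt i)) ≠ 0 := by
      have hvi : (v : GolayPt → ℤ) (Golay.pt i) = 4 := by simp [hv, coe_pairVec, hne]
      have hm := congrFun (vec_mono σ hσ c hc v) (Golay.pt i)
      have hn' : sqNorm ((mono σ hσ c hc • v : leechLattice) : GolayPt → ℤ) = 32 := by
        rw [sqNorm_smul, hn]
      intro h0
      simp only [signedPerm, h0, neg_zero, ite_self] at hm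
      rcases congr_short (mono σ hσ c hc • v).2 (hfixed v hF) (by rw [hn']; norm_num)
        (by rw [hn]; norm_num) with e | e | ⟨e, -, -⟩
      · rw [congrFun e] at hm; omega
      · rw [congrFun e, Pi.neg_apply] at hm; omega
      · omega
    by_contra hcon
    rw [not_or] at hcon
    exact hne0 (by simp [hv, coe_pairVec, hcon.1, hcon.2])
  have hfix : ∀ i ∈ [2, 3, 4, 5, 14, 17], σ (Golay.pt i) = Golay.pt i := by
    intro i hi
    obtain ⟨j, hj, k, hk, hij, hik, hjk⟩ : ∃ j ∈ [2, 3, 4, 5, 14, 17], ∃ k ∈ [2, 3, 4, 5, 14, 17],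
        i ≠ j ∧ i ≠ k ∧ j ≠ k := by
      revert i; decide
    have h1 : σ.symm (Golay.pt i) = Golay.pt i := by
      rcases hpair i hi j hj hij with e | e
      · exact e
      rcases hpair i hi k hk hik with e' | e'
      · exact e'
      have hlt : ∀ i ∈ [2, 3, 4, 5, 14, 17], i < 24 := by decide
      exact absurd (by rw [← Golay.idx_pt (hlt j hj), ← e, e', Golay.idx_pt (hlt k hk)]) hjk
    exact ((Equiv.symm_apply_eq σ).1 h1).symm
  have hcomm := commute_of_fix hσ hfix
  rw [hcomm, Subgroup.coe_mul, mul_assoc] at hinv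
  exact threeM_ne_one (Subtype.ext (mul_right_cancel
    ((mul_left_cancel hinv).symm.trans (one_mul σ).symm)))

/-- The orbit of the scalar on the fixed class of the tenth element. -/
def lineCode (j : ℕ) : ℕ := [1823, 2341, 3642].getD (j % 3) 0

/-- Codes spanning all codes, each the image of an earlier one. -/
def chainCode : List ℕ := [1823, 1817, 1853, 1821, 1565, 3869, 3191, 3290, 2341, 2012, 900, 1829]

/-- Where the entries come from. -/
def chainFrom : List (ℕ × ℕ) :=
  [(0, 15), (0, 0), (0, 1), (0, 2), (0, 3), (0, 4), (0, 6), (0, 7), (0, 8), (0, 9), (0, 11), (1, 5)]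

/-- The unit codes as sums of the entries. -/
def chainExpr : List ℕ := [310, 9, 10, 1873, 3925, 12, 1439, 1697, 24, 691, 2971, 40]

theorem line_chk : (∀ j < 3, appC 10 (lineCode j) = lineCode j ∧ appC 8 (lineCode j) = lineCode (j + 1)) ∧
    ∀ m < 4096, appC 10 m = m → m = 0 ∨ m = 1823 ∨ m = 2341 ∨ m = 3642 := by
  decide +kernel

theorem chain_chk : (∀ p < 12, 1 ≤ p → (chainFrom.getD p (0, 0)).1 < p ∧ (chainFrom.getD p (0, 0)).2 < 15 ∧
      appC (chainFrom.getD p (0, 0)).2 (chainCode.getD (chainFrom.getD p (0, 0)).1 0) = chainCode.getD p 0) ∧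
    ∀ b < 12, (List.range 12).foldr
      (fun p a => if (chainExpr.getD b 0).testBit p then chainCode.getD p 0 ^^^ a else a) 0 = 2 ^ b := by
  decide +kernel

/-- An inverting element of 2-power order on the classes commuting with the centraliser is trivial on them. -/
theorem not_commute_of_invert {η : Co0} (hη : η * g3 = g3 * g3 * η)
    (hc : ∀ a : cent3, ∀ n < 4096, Cg (((a : Co0) * η) • cls n) ((η * (a : Co0)) • cls n))
    (k : ℕ) (hk : ∀ n < 4096, Cg (η ^ 2 ^ k • cls n) (cls n)) : False := by
  refine not_trivial_of_invert hη ?_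
  have hcs : ∀ a : cent3, ∀ n < 4096, Cg ((a : Co0) • η • cls n) (η • (a : Co0) • cls n) := fun a n hn => by
    rw [← mul_smul, ← mul_smul]; exact hc a n hn
  have hline : ∀ j, lineCode j < 4096 ∧ appC 10 (lineCode j) = lineCode j ∧
      appC 8 (lineCode j) = lineCode (j + 1) := by
    intro j
    have hj : j % 3 < 3 := Nat.mod_lt _ (by norm_num)
    obtain ⟨h1, h2⟩ := line_chk.1 _ hj
    have e : ∀ i, lineCode i = lineCode (i % 3) := fun i => by simp [lineCode]
    refine ⟨?_, by rw [e j]; exact h1, by rw [e j, h2, e (j % 3 + 1), e (j + 1), Nat.mod_add_mod]⟩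
    rw [e j]
    interval_cases (j % 3) <;> decide
  -- the image of the first class lies on the line
  obtain ⟨d, hd⟩ : ∃ d, Cg (η • cls (lineCode 0)) (cls (lineCode d)) := by
    obtain ⟨m, hm, hmc⟩ := exists_code (fix_smul_invert hη (fix_cls (lineCode 0)))
    have h10 : appC 10 m = m := by
      refine code_unique (appC_spec (by norm_num) m).1 hm ?_
      refine ((appC_spec (show 10 < 15 by norm_num) m).2.symm.trans ((hmc.symm).smul _)).trans ?_
      refine Cg.trans (hcs (matC 10) _ (hline 0).1) ?_
      refine Cg.trans (((appC_spec (show 10 < 15 by norm_num) (lineCode 0)).2).smul η) ?_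
      rw [(hline 0).2.1]
      exact hmc
    rcases line_chk.2 m hm h10 with rfl | rfl | rfl | rfl
    · exfalso
      have h0 := hmc.smul η⁻¹
      rw [inv_smul_smul, cls_zero, ← addHom_apply η⁻¹, map_zero, ← cls_zero] at h0
      exact absurd (code_unique (hline 0).1 (by norm_num) h0) (by decide)
    exacts [⟨0, hmc⟩, ⟨1, hmc⟩, ⟨2, hmc⟩]
  have hstep : ∀ j, Cg (η • cls (lineCode j)) (cls (lineCode (j + d))) := by
    intro j
    induction j with
    | zero => rwa [Nat.zero_add]
    | succ j ih =>
      obtain ⟨hlt, -, h8⟩ := hline j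
      obtain ⟨-, -, h8'⟩ := hline (j + d)
      have e1 := ((appC_spec (show 8 < 15 by norm_num) (lineCode j)).2).smul η
      rw [h8] at e1
      have e2 := (appC_spec (show 8 < 15 by norm_num) (lineCode (j + d))).2
      rw [h8'] at e2
      rw [Nat.add_right_comm]
      exact ((e1.symm.trans (hcs (matC 8) _ hlt).symm).trans (ih.smul _)).trans e2
  have hiter : ∀ m, Cg (η ^ m • cls (lineCode 0)) (cls (lineCode (m * d))) := by
    intro m
    induction m with
    | zero => rw [pow_zero, one_smul, Nat.zero_mul]; exact cg_refl _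
    | succ m ih => rw [pow_succ', mul_smul, Nat.succ_mul]; exact (ih.smul η).trans (hstep _)
  have hd0 : d % 3 = 0 := by
    have h := code_unique (hline _).1 (hline 0).1 ((hiter (2 ^ k)).symm.trans (hk _ (hline 0).1))
    have h3 : 2 ^ k * d % 3 = 0 := by
      have hlt : 2 ^ k * d % 3 < 3 := Nat.mod_lt _ (by norm_num)
      simp only [lineCode] at h
      interval_cases (2 ^ k * d % 3) <;> simp_all
    rcases (Nat.prime_three.dvd_mul).1 (Nat.dvd_of_mod_eq_zero h3) with h2 | h2
    · exact absurd (Nat.prime_three.dvd_of_dvd_pow h2) (by norm_num)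
    · exact Nat.mod_eq_zero_of_dvd h2
  have hfix0 : Cg (η • cls 1823) (cls 1823) := by
    simpa [lineCode, hd0] using hd
  have hadd : ∀ a b, Cg (η • cls a) (cls a) → Cg (η • cls b) (cls b) → Cg (η • cls (a ^^^ b)) (cls (a ^^^ b)) := by
    intro a b ha hb
    refine (((cls_xor a b).smul η).trans ?_).trans (cls_xor a b).symm
    rw [← addHom_apply, map_add, addHom_apply, addHom_apply]
    exact Cg.add' ha hb
  have h0 : Cg (η • cls 0) (cls 0) := by rw [cls_zero, ← addHom_apply η, map_zero]; exact cg_refl _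
  obtain ⟨hfrom, hexpr⟩ := chain_chk
  have hch : ∀ p, p < 12 → Cg (η • cls (chainCode.getD p 0)) (cls (chainCode.getD p 0)) ∧
      chainCode.getD p 0 < 4096 := by
    intro p
    induction p using Nat.strong_induction_on with
    | _ p ih =>
      intro hp
      rcases Nat.eq_zero_or_pos p with rfl | hp1
      · exact ⟨hfix0, by decide⟩
      obtain ⟨hlt, hk15, he⟩ := hfrom p hp hp1
      obtain ⟨hg, hl⟩ := ih _ hlt (lt_trans hlt hp)
      rw [← he]
      refine ⟨?_, (appC_spec hk15 _).1⟩
      have e := (appC_spec hk15 (chainCode.getD (chainFrom.getD p (0, 0)).1 0)).2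
      exact (((e.symm.smul η).trans (hcs (matC _) _ hl).symm).trans (hg.smul _)).trans e
  have hfold : ∀ (l : List ℕ) (P : ℕ → Bool) (f : ℕ → ℕ), (∀ p ∈ l, Cg (η • cls (f p)) (cls (f p))) →
      Cg (η • cls (l.foldr (fun p a => if P p then f p ^^^ a else a) 0))
        (cls (l.foldr (fun p a => if P p then f p ^^^ a else a) 0)) := by
    intro l P f
    induction l with
    | nil => exact fun _ => h0
    | cons p l ih =>
      intro h
      have ih' := ih fun q hq => h q (List.mem_cons_of_mem _ hq)
      rw [List.foldr_cons]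
      split
      · exact hadd _ _ (h p List.mem_cons_self) ih'
      · exact ih'
  intro n hn
  rw [← fold_bits n hn]
  refine hfold _ _ _ fun b hb => ?_
  rw [← hexpr b (List.mem_range.1 hb)]
  exact hfold _ _ _ fun p hp => (hch p (List.mem_range.1 hp)).1

end Cfsg.Agent.MonsterThree
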