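import Cfsg.Agent.Lib.MonsterThreeNorm.Quot
import Cfsg.Agent.Lib.FiTwentyFour.Simple

/-!
# The centraliser of Y is quasisimple once its quotient by Y is the derived group of Fi24

* `Ctx.b_mem_commutator` : b is in the derived group of its centraliser
* `Ctx.quasisimple_centralizer`
-/

set_option autoImplicit false
set_option maxRecDepth 100000
open Cfsg
open scoped commutatorElement

namespace Cfsg.Agent.MonsterThree

open Leech MonsterLattice Monster LargeExtraspecial GolayClasses

theorem pair_chk : sylowPerms.getD 1 0 ∈ sylowPerms ∧ sylowPerms.getD 12 0 ∈ sylowPerms ∧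
    (∀ i < 24, Golay.fn (sylowPerms.getD 1 0) (Golay.fn threeRepA i) =
      Golay.fn threeRepA (Golay.fn (sylowPerms.getD 1 0) i)) ∧
    (∀ i < 24, Golay.fn (sylowPerms.getD 12 0) (Golay.fn threeRepA i) =
      Golay.fn threeRepA (Golay.fn (sylowPerms.getD 12 0) i)) ∧
    ∀ i < 24, Golay.fn (sylowPerms.getD 1 0) (Golay.fn (sylowPerms.getD 12 0) i) =
      Golay.fn threeRepA (Golay.fn (sylowPerms.getD 12 0) (Golay.fn (sylowPerms.getD 1 0) i)) := by
  decide +kernel

theorem exists_pair : ∃ η ζ : cent3, ((η : Co0) * ζ) = g3 * (ζ * η) := by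
  obtain ⟨ha, hb, hca, hcb, hab⟩ := pair_chk
  set a := sylowPerms.getD 1 0
  set b := sylowPerms.getD 12 0
  have cm : ∀ d (hd : d ∈ sylowPerms), (∀ i < 24, Golay.fn d (Golay.fn threeRepA i) = Golay.fn threeRepA (Golay.fn d i)) →
      permHom ⟨Golay.toPerm d, toPerm_sylow_mem hd⟩ ∈ cent3 := fun d hd hc => mem_cent3.2 (by
    rw [g3, ← map_mul, ← map_mul]
    refine congrArg permHom (Subtype.ext (Equiv.ext fun p => Golay.idx_injective ?_))
    simp only [Subgroup.coe_mul, Equiv.Perm.mul_apply]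
    rw [idx_sylow hd, idx_threeM, idx_threeM, idx_sylow hd]
    exact hc _ (Golay.idx_lt p))
  refine ⟨⟨_, cm a ha hca⟩, ⟨_, cm b hb hcb⟩, ?_⟩
  show permHom _ * permHom _ = g3 * (permHom _ * permHom _)
  rw [g3, ← map_mul, ← map_mul, ← map_mul]
  refine congrArg permHom (Subtype.ext (Equiv.ext fun p => Golay.idx_injective ?_))
  simp only [Subgroup.coe_mul, Equiv.Perm.mul_apply]
  rw [idx_sylow ha, idx_sylow hb, idx_threeM, idx_sylow hb, idx_sylow ha]
  exact hab _ (Golay.idx_lt p)

namespace Ctx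

variable {G : Type*} [Group G] [Finite G] (X : Ctx G)

theorem b_mem_commutator {C : Subgroup G} (hC : ∀ x, x * X.b = X.b * x → x ∈ C) :
    X.b ∈ ⁅C, C⁆ := by
  obtain ⟨η, ζ, hηζ⟩ := exists_pair
  obtain ⟨u, hu⟩ := X.exists_T η
  obtain ⟨v, hv⟩ := X.exists_T ζ
  set w : Subgroup.centralizer ({X.z} : Set G) := ⁅(⟨u, u.2.1⟩ : Subgroup.centralizer ({X.z} : Set G)), ⟨v, v.2.1⟩⁆ with hw
  have hκw : X.M.κ w = X.M.κ X.bC := by
    rw [hw, map_commutatorElement, ← hu, ← hv, commutatorElement_def, show X.M.κ X.bC = _ from X.hκ,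
      ← QuotientGroup.mk_mul, hηζ, QuotientGroup.mk_mul, QuotientGroup.mk_mul]
    group
  have hq : ((w * X.bC⁻¹ : Subgroup.centralizer ({X.z} : Set G)) : G) ∈ X.Q :=
    (X.M.κ_ker _).1 (by rw [map_mul, map_inv, hκw, mul_inv_cancel])
  have hwC : (w : G) ∈ ⁅C, C⁆ :=
    Subgroup.commutator_mem_commutator (hC _ (Subgroup.mem_centralizer_singleton_iff.1 u.2.2))
      (hC _ (Subgroup.mem_centralizer_singleton_iff.1 v.2.2))
  set q := (w : G) * X.b⁻¹ with hqdef
  have hqQ : q ∈ X.Q := by simpa [bC] using hq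
  have hwb : Commute (w : G) X.b := by
    have hu' : Commute (u : G) X.b := Subgroup.mem_centralizer_singleton_iff.1 u.2.2
    have hv' : Commute (v : G) X.b := Subgroup.mem_centralizer_singleton_iff.1 v.2.2
    show Commute ((u : G) * v * (u : G)⁻¹ * (v : G)⁻¹) X.b
    exact ((hu'.mul_left hv').mul_left hu'.inv_left).mul_left hv'.inv_left
  have hqb : Commute q X.b := hwb.mul_left (Commute.refl X.b).inv_left
  have hq4 : q ^ 4 = 1 := by
    rw [pow_succ, pow_succ, pow_two]
    rcases X.M.D.sq hqQ with h | h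
    · rw [h, one_mul, h]
    · rw [h, mul_assoc, h, X.M.D.z_sq]
  have hb : (w : G) ^ 4 = X.b := by
    rw [show (w : G) = q * X.b by rw [hqdef, inv_mul_cancel_right], hqb.mul_pow, hq4, one_mul,
      show 4 = 3 + 1 from rfl, pow_succ, X.b_cube, one_mul]
  exact hb ▸ pow_mem hwC 4

end Ctx

theorem quasisimple_of_quotient {C : Type*} [Group C] [Finite C] {A : Subgroup C} [A.Normal]
    (hA : A ≤ Subgroup.center C) (hAC : A ≤ commutator C)
    (hiso : Cfsg.Spor.IsoFi24' (C ⧸ A)) : Cfsg.IsQuasisimple C := by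
  obtain ⟨e⟩ := hiso
  have hsimp : IsSimpleGroup (Cfsg.Spor.Fi24') := FiTwentyFour.simple_commutator
  have hs : IsSimpleGroup (C ⧸ A) := e.isSimpleGroup
  have hcard : ¬ (Nat.card (C ⧸ A)).Prime := by
    rw [Nat.card_congr e.toEquiv, show Nat.card Cfsg.Spor.Fi24' = 1255205709190661721292800 from FiTwentyFour.card_commutator]
    exact Nat.not_prime_of_dvd_of_lt (m := 2) (by norm_num) le_rfl (by norm_num)
  have hna : ¬ ∀ x y : C ⧸ A, x * y = y * x := fun h => by
    haveI : IsMulCommutative (C ⧸ A) := ⟨⟨h⟩⟩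
    open scoped IsMulCommutative in exact hcard IsSimpleGroup.prime_card
  set π := QuotientGroup.mk' A
  have hperf : commutator C = ⊤ := by
    have hn : ((commutator C).map π).Normal :=
      Subgroup.Normal.map inferInstance π (QuotientGroup.mk'_surjective A)
    rcases hn.eq_bot_or_eq_top with h | h
    · exfalso
      refine hna fun x y => ?_
      obtain ⟨a, rfl⟩ := QuotientGroup.mk'_surjective A x
      obtain ⟨b, rfl⟩ := QuotientGroup.mk'_surjective A y
      have h1 : π ⁅a, b⁆ ∈ (commutator C).map π :=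
        Subgroup.mem_map_of_mem π (Subgroup.commutator_mem_commutator (Subgroup.mem_top a) (Subgroup.mem_top b))
      rw [h, Subgroup.mem_bot, map_commutatorElement, commutatorElement_eq_one_iff_mul_comm] at h1
      exact h1
    · have h2 := congrArg (Subgroup.comap π) h
      rwa [Subgroup.comap_map_eq, QuotientGroup.ker_mk', sup_eq_left.2 hAC, Subgroup.comap_top] at h2
  have hZ : Subgroup.center C = A := by
    refine le_antisymm ?_ hA
    have hn : ((Subgroup.center C).map π).Normal :=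
      Subgroup.Normal.map inferInstance π (QuotientGroup.mk'_surjective A)
    rcases hn.eq_bot_or_eq_top with h | h
    · intro x hx
      have := Subgroup.mem_map_of_mem π hx
      rw [h, Subgroup.mem_bot] at this
      exact (QuotientGroup.eq_one_iff x).1 this
    · exfalso
      refine hna fun x y => ?_
      obtain ⟨a, ha, rfl⟩ : x ∈ (Subgroup.center C).map π := h ▸ Subgroup.mem_top x
      obtain ⟨b, rfl⟩ := QuotientGroup.mk'_surjective A y
      rw [← map_mul, ← map_mul, Subgroup.mem_center_iff.1 ha b]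
  exact ⟨⟨hperf⟩, (QuotientGroup.quotientMulEquivOfEq hZ).isSimpleGroup⟩

end Cfsg.Agent.MonsterThree
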