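import Cfsg.Agent.Lib.MonsterThreeNorm.Invert
import Cfsg.Agent.Lib.LargeFischer.Thompson

/-!
# The normaliser of Y modulo Y as an extension of a group of large Fischer type

* `exists_sylow_central` : the involution of a group of large Fischer type is 2-central
* `normalizer_data` : the subgroup C(Y)/Y of index two and its data
-/

set_option autoImplicit false
open Cfsg
open scoped commutatorElement

namespace Cfsg.Agent.MonsterThree

open Leech MonsterLattice Monster LargeExtraspecial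

theorem exists_sylow_central {G : Type*} [Group G] [Finite G] {z : G}
    {Q : Subgroup (Subgroup.centralizer ({z} : Set G))} [Q.Normal] (hF : Cfsg.IsOfLargeFischerTypeAt z Q) :
    ∃ P : Sylow 2 G, z ∈ (P : Subgroup G) ∧ ∀ x ∈ (P : Subgroup G), Commute x z := by
  haveI : Fact (Nat.Prime 2) := ⟨Nat.prime_two⟩
  haveI : Fact (Cfsg.IsExtraspecial 2 Q) := ⟨hF.1.2.2.1⟩
  obtain ⟨A, T₀, ⟨D⟩, hT, hAT, -, -, huniq⟩ := LargeFischer.exists_adata hF
  obtain ⟨P₀, hP₀⟩ := LargeFischer.sylow_eq D hT hAT huniq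
  have hG : 2 ^ (Nat.card G).factorization 2 = 2 ^ 21 := by
    rw [← P₀.card_eq_multiplicity, hP₀, hT]
  obtain ⟨hS, N, M, hN, hM, hQN, hNM, hNc, ⟨K, _, _, hK, ⟨e⟩⟩, hMi⟩ := hF
  have hP : Nat.card (Cfsg.PSU 4 K 3) = 3265920 := by
    have h := Unitary.card_PSU (q := 3) (F := K) (n := 4) (hK.trans (by norm_num)) (by norm_num)
    simp [Finset.prod_range_succ, Nat.even_iff] at h
    omega
  have hM' : Nat.card M = 3265920 * (3 * 2 ^ 13) := by
    have h := Subgroup.card_eq_card_quotient_mul_card_subgroup (N.subgroupOf M)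
    rwa [Nat.card_congr e.toEquiv, hP, Nat.card_congr (Subgroup.subgroupOfEquivOfLe hNM).toEquiv, hNc,
      hS.2.2.2.1] at h
  have hC : 2 ^ 21 ∣ Nat.card (Subgroup.centralizer ({z} : Set G)) :=
    ⟨25515 * 3, by rw [← M.card_mul_index, hMi, hM']; norm_num⟩
  obtain ⟨S, hS'⟩ := Sylow.exists_subgroup_card_pow_prime 2 hC
  let S₁ := S.map (Subgroup.centralizer ({z} : Set G)).subtype
  have hS₁ : Nat.card S₁ = 2 ^ (Nat.card G).factorization 2 := by
    rw [hG, Subgroup.card_subtype, hS']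
  have hcomm : ∀ x ∈ S₁, Commute x z := fun x hx =>
    Subgroup.mem_centralizer_singleton_iff.1 (Subgroup.map_subtype_le S hx)
  refine ⟨Sylow.ofCard S₁ hS₁, ?_, hcomm⟩
  -- z lies in the maximal 2-subgroup centralising it
  have hzp : IsPGroup 2 (S₁ ⊔ Subgroup.zpowers z : Subgroup G) := by
    refine IsPGroup.to_sup_of_normal_right' (IsPGroup.of_card hS₁) ?_ ?_
    · refine IsPGroup.of_card (n := 1) ?_
      rw [Nat.card_zpowers, hS.1, pow_one]
    · intro x hx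
      refine Subgroup.mem_normalizer_fintype fun n hn => ?_
      obtain ⟨i, rfl⟩ := Subgroup.mem_zpowers_iff.1 hn
      show x * z ^ i * x⁻¹ ∈ Subgroup.zpowers z
      rw [((hcomm x hx).zpow_right i).eq, mul_inv_cancel_right]
      exact zpow_mem (Subgroup.mem_zpowers z) i
  have heq := (Sylow.ofCard S₁ hS₁).is_maximal' hzp le_sup_left
  show z ∈ S₁
  rw [show S₁ = S₁ ⊔ Subgroup.zpowers z from heq.symm]
  exact (le_sup_right : Subgroup.zpowers z ≤ _) (Subgroup.mem_zpowers z)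

variable {G : Type*} [Group G] [Finite G]

theorem mem_centralizer_zpowers {b x : G} :
    x ∈ Subgroup.centralizer (Subgroup.zpowers b : Set G) ↔ x * b = b * x := by
  constructor
  · exact fun h => (Subgroup.mem_centralizer_iff.1 h b (Subgroup.mem_zpowers b)).symm
  · intro h
    refine Subgroup.mem_centralizer_iff.2 fun y hy => ?_
    obtain ⟨i, rfl⟩ := Subgroup.mem_zpowers_iff.1 hy
    exact ((show Commute x b from h).zpow_right i).eq.symm

theorem centralizer_zpowers (b : G) :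
    Subgroup.centralizer (Subgroup.zpowers b : Set G) = Subgroup.centralizer ({b} : Set G) :=
  Subgroup.ext fun _ => mem_centralizer_zpowers.trans Subgroup.mem_centralizer_singleton_iff.symm

theorem mem_normalizer_zpowers {b x : G} (h : x * b * x⁻¹ = b ∨ x * b * x⁻¹ = b⁻¹) :
    x ∈ Subgroup.normalizer (Subgroup.zpowers b : Set G) := by
  refine Subgroup.mem_normalizer_fintype fun n hn => ?_
  obtain ⟨i, rfl⟩ := Subgroup.mem_zpowers_iff.1 hn
  show x * b ^ i * x⁻¹ ∈ Subgroup.zpowers b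
  rw [← conj_zpow]
  rcases h with e | e <;> rw [e]
  · exact zpow_mem (Subgroup.mem_zpowers b) i
  · exact zpow_mem (inv_mem (Subgroup.mem_zpowers b)) i

namespace Ctx

variable (X : Ctx G)

theorem conj_cases {x : G} (hx : x ∈ Subgroup.normalizer (Subgroup.zpowers X.b : Set G)) :
    x * X.b * x⁻¹ = X.b ∨ x * X.b * x⁻¹ = X.b⁻¹ := by
  have h := (Subgroup.mem_normalizer_iff.1 hx X.b).1 (Subgroup.mem_zpowers X.b)
  obtain ⟨i, hi⟩ := Subgroup.mem_zpowers_iff.1 h
  have hi' : X.b ^ i = X.b ^ (i % (3 : ℤ)) := by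
    conv_lhs => rw [← Int.emod_add_mul_ediv i 3]
    rw [zpow_add, zpow_mul, show X.b ^ (3 : ℤ) = 1 from (zpow_natCast X.b 3).trans X.b_cube, one_zpow, mul_one]
  have h3 : X.b ^ (2 : ℤ) = X.b⁻¹ := eq_inv_of_mul_eq_one_left (by
    rw [← zpow_add_one, show (2 : ℤ) + 1 = ((3 : ℕ) : ℤ) by norm_num, zpow_natCast, X.b_cube])
  have h0 := Int.emod_nonneg i (show (3 : ℤ) ≠ 0 by norm_num)
  have h1 := Int.emod_lt_of_pos i (show (0 : ℤ) < 3 by norm_num)
  rw [← hi, hi']
  interval_cases (i % (3 : ℤ))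
  · exfalso
    have e : x * X.b * x⁻¹ = 1 := by rw [← hi, hi', zpow_zero]
    have : X.b = 1 := conj_eq_one_iff.1 e
    have h3 := X.hb3
    rw [this, orderOf_one] at h3
    norm_num at h3
  · exact Or.inl (zpow_one _)
  · exact Or.inr h3

theorem normalizer_data {Y : Subgroup G} (hY : Subgroup.zpowers X.b = Y)
    [(Y.subgroupOf (Subgroup.normalizer (Y : Set G))).Normal] :
    ∃ G₀ : Subgroup (↥(Subgroup.normalizer (Y : Set G)) ⧸ Y.subgroupOf (Subgroup.normalizer (Y : Set G))),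
      G₀.index = 2 ∧
      (∀ x, x ∈ G₀ ↔ ∃ n : Subgroup.normalizer (Y : Set G),
        (n : G) ∈ Subgroup.centralizer (Y : Set G) ∧ QuotientGroup.mk n = x) ∧
      ∃ (z : ↥G₀) (Q : Subgroup (Subgroup.centralizer ({z} : Set ↥G₀))) (_ : Q.Normal),
        Cfsg.IsOfLargeFischerTypeAt z Q ∧
        (∃ P : Sylow 2 ↥G₀, z ∈ (P : Subgroup ↥G₀) ∧ ∀ x ∈ (P : Subgroup ↥G₀), Commute x z) ∧
        (Cfsg.generalizedFittingSubgroup ↥(Subgroup.centralizer
          ({(z : ↥(Subgroup.normalizer (Y : Set G)) ⧸ Y.subgroupOf (Subgroup.normalizer (Y : Set G)))} : Set _))).map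
          (Subgroup.subtype _) = ((Q.map (Subgroup.subtype _)).map G₀.subtype) := by
  classical
  subst hY
  haveI : Fact (Nat.Prime 2) := ⟨Nat.prime_two⟩
  set NY := Subgroup.normalizer (Subgroup.zpowers X.b : Set G) with hNY
  set CY := Subgroup.centralizer (Subgroup.zpowers X.b : Set G) with hCY
  have hCN : CY ≤ NY := fun x hx =>
    mem_normalizer_zpowers (Or.inl (mul_inv_eq_iff_eq_mul.2 (mem_centralizer_zpowers.1 hx)))
  have hCYb : ∀ x, x ∈ CY ↔ x ∈ Subgroup.centralizer ({X.b} : Set G) := fun x =>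
    SetLike.ext_iff.1 (centralizer_zpowers X.b) x
  let π := QuotientGroup.mk' ((Subgroup.zpowers X.b).subgroupOf NY)
  have hπk : ∀ n : NY, π n = 1 ↔ (n : G) ∈ Subgroup.zpowers X.b := fun n =>
    (QuotientGroup.eq_one_iff n).trans Subgroup.mem_subgroupOf
  let G₀ := (CY.subgroupOf NY).map π
  have hG₀ : ∀ x, x ∈ G₀ ↔ ∃ n : NY, (n : G) ∈ CY ∧ QuotientGroup.mk n = x := fun x => Iff.rfl
  have hYC : Subgroup.zpowers X.b ≤ CY := Subgroup.zpowers_le.2 (mem_centralizer_zpowers.2 rfl)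
  obtain ⟨t, htz, htb⟩ := X.exists_inverting
  have htN : t ∈ NY := mem_normalizer_zpowers (Or.inr htb)
  have hbinv : X.b ≠ X.b⁻¹ := fun e => by
    have h := X.eq_one_of_sq (Subgroup.mem_zpowers X.b) (mul_eq_one_iff_eq_inv.2 e)
    have h3 := X.hb3
    rw [h, orderOf_one] at h3
    norm_num at h3
  have hidx : G₀.index = 2 := by
    rw [Subgroup.index_map_eq _ (QuotientGroup.mk'_surjective _) (by
      rw [QuotientGroup.ker_mk']; exact Subgroup.comap_mono hYC)]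
    rw [Subgroup.index_eq_two_iff]
    refine ⟨⟨t, htN⟩, fun n => ?_⟩
    simp only [Subgroup.mem_subgroupOf, Subgroup.coe_mul, hCY, mem_centralizer_zpowers]
    rcases X.conj_cases n.2 with e | e
    · refine Or.inr ⟨mul_inv_eq_iff_eq_mul.1 e, fun h => hbinv ?_⟩
      have h' : (n : G) * t * X.b * ((n : G) * t)⁻¹ = X.b := mul_inv_eq_iff_eq_mul.2 h
      rw [show (n : G) * t * X.b * ((n : G) * t)⁻¹ = (n : G) * (t * X.b * t⁻¹) * (n : G)⁻¹ by group,
        htb, ← conj_inv, e] at h'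
      exact h'.symm
    · refine Or.inl ⟨mul_inv_eq_iff_eq_mul.1 ?_, fun h => hbinv (e ▸ (mul_inv_eq_iff_eq_mul.2 h).symm)⟩
      rw [show (n : G) * t * X.b * ((n : G) * t)⁻¹ = (n : G) * (t * X.b * t⁻¹) * (n : G)⁻¹ by group,
        htb, ← conj_inv, e, inv_inv]
  let π₀ : CY →* G₀ := (π.comp (Subgroup.inclusion hCN)).codRestrict G₀ fun c =>
    ⟨Subgroup.inclusion hCN c, c.2, rfl⟩
  have hπ₀s : Function.Surjective π₀ := by
    rintro ⟨x, n, hn, rfl⟩
    exact ⟨⟨n, hn⟩, Subtype.ext rfl⟩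
  have hπ₀k : ∀ c, π₀ c = 1 ↔ (c : G) ∈ Subgroup.zpowers X.b := fun c =>
    Subtype.ext_iff.trans (hπk (Subgroup.inclusion hCN c))
  obtain ⟨zc, hzc, R, hRn, hAt, hmem⟩ := fischer_at X (centralizer_zpowers X.b) π₀ hπ₀s hπ₀k
  refine ⟨G₀, hidx, hG₀, π₀ zc, R, hRn, hAt, exists_sylow_central hAt, ?_⟩
  set zx : NY ⧸ (Subgroup.zpowers X.b).subgroupOf NY := ↑(π₀ zc) with hzx
  set RX := ((R.map (Subgroup.subtype _)).map G₀.subtype) with hRX
  have hRXmem : ∀ x, x ∈ RX ↔ ∃ n : NY, (n : G) ∈ X.Q ⊓ Subgroup.centralizer ({X.b} : Set G) ∧ π n = x := by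
    intro x
    constructor
    · rintro ⟨h, hh, rfl⟩
      obtain ⟨c, hc, rfl⟩ := (hmem h).1 hh
      exact ⟨Subgroup.inclusion hCN c, ⟨hc, (hCYb _).1 c.2⟩, rfl⟩
    · rintro ⟨n, ⟨hQ, hb⟩, rfl⟩
      exact ⟨π₀ ⟨n, (hCYb _).2 hb⟩, (hmem _).2 ⟨_, hQ, rfl⟩, rfl⟩
  set D := Subgroup.centralizer ({zx} : Set (NY ⧸ (Subgroup.zpowers X.b).subgroupOf NY))
  have hlift : ∀ x ∈ D, ∃ n : NY, (n : G) ∈ Subgroup.centralizer ({X.z} : Set G) ∧ π n = x := by
    intro x hx
    obtain ⟨n, rfl⟩ := QuotientGroup.mk'_surjective _ x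
    refine ⟨n, ?_, rfl⟩
    set zn := Subgroup.inclusion hCN zc with hzn
    have hznG : (zn : G) = X.z := hzc
    have hx' : π n * zx = zx * π n := Subgroup.mem_centralizer_singleton_iff.1 hx
    have h1 : π (n * zn * n⁻¹ * zn⁻¹) = 1 := by
      rw [map_mul, map_mul, map_mul, map_inv, map_inv, show π zn = zx from rfl, hx']
      group
    have h2 : (n : G) * X.z * (n : G)⁻¹ * X.z⁻¹ ∈ Subgroup.zpowers X.b := by
      simpa [hznG] using (hπk _).1 h1
    obtain ⟨i, hi⟩ := Subgroup.mem_zpowers_iff.1 h2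
    have e : (n : G) * X.z * (n : G)⁻¹ = X.b ^ i * X.z := by rw [hi]; group
    have hcz : Commute (X.b ^ i) X.z := (show Commute X.b X.z from X.bz).zpow_left i
    have h3 : (X.b ^ i * X.z) * (X.b ^ i * X.z) = 1 := by
      rw [← e, show (n : G) * X.z * (n : G)⁻¹ * ((n : G) * X.z * (n : G)⁻¹) =
        (n : G) * (X.z * X.z) * (n : G)⁻¹ by group, X.M.D.z_sq]
      group
    rw [hcz.symm.mul_mul_mul_comm, X.M.D.z_sq, mul_one] at h3
    rw [X.eq_one_of_sq (zpow_mem (Subgroup.mem_zpowers _) _) h3, one_mul] at e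
    exact Subgroup.mem_centralizer_singleton_iff.2 (mul_inv_eq_iff_eq_mul.1 e)
  have hRD : RX ≤ D := by
    intro x hx
    obtain ⟨n, hn, rfl⟩ := (hRXmem x).1 hx
    refine Subgroup.mem_centralizer_singleton_iff.2 ?_
    rw [show zx = π (Subgroup.inclusion hCN zc) from rfl, ← map_mul, ← map_mul]
    exact congrArg π (Subtype.ext (by
      show (n : G) * (zc : G) = (zc : G) * (n : G)
      rw [hzc]; exact X.M.D.z_central _ hn.1))
  let R' := RX.subgroupOf D
  have hR'mem : ∀ d : D, d ∈ R' ↔ ∃ n : NY, (n : G) ∈ X.Q ⊓ Subgroup.centralizer ({X.b} : Set G) ∧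
      π n = (d : NY ⧸ (Subgroup.zpowers X.b).subgroupOf NY) := fun d => hRXmem d
  haveI hR'n : R'.Normal := ⟨fun r hr g => by
    obtain ⟨q, hq, hqe⟩ := (hR'mem r).1 hr
    obtain ⟨n, hnz, hne⟩ := hlift g g.2
    refine (hR'mem _).2 ⟨n * q * n⁻¹, ⟨?_, ?_⟩, by simp [hqe, hne]⟩
    · exact X.M.D.norm _ (Subgroup.mem_centralizer_singleton_iff.1 hnz) _ hq.1
    · refine Subgroup.mem_centralizer_singleton_iff.2 (mul_inv_eq_iff_eq_mul.1 ?_)
      have hqb : (q : G) * X.b * (q : G)⁻¹ = X.b :=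
        mul_inv_eq_iff_eq_mul.2 (Subgroup.mem_centralizer_singleton_iff.1 hq.2)
      show (n : G) * q * (n : G)⁻¹ * X.b * ((n : G) * q * (n : G)⁻¹)⁻¹ = X.b
      rcases X.conj_cases n.2 with e | e
      · have e' : (n : G)⁻¹ * X.b * n = X.b := by
          calc (n : G)⁻¹ * X.b * n = (n : G)⁻¹ * ((n : G) * X.b * (n : G)⁻¹) * n := by rw [e]
            _ = X.b := by group
        calc (n : G) * q * (n : G)⁻¹ * X.b * ((n : G) * q * (n : G)⁻¹)⁻¹
            = (n : G) * ((q : G) * ((n : G)⁻¹ * X.b * n) * (q : G)⁻¹) * (n : G)⁻¹ := by group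
          _ = X.b := by rw [e', hqb, e]
      · have e' : (n : G)⁻¹ * X.b * n = X.b⁻¹ := by
          calc (n : G)⁻¹ * X.b * n = (n : G)⁻¹ * ((n : G) * X.b * (n : G)⁻¹)⁻¹ * n := by rw [e, inv_inv]
            _ = X.b⁻¹ := by group
        calc (n : G) * q * (n : G)⁻¹ * X.b * ((n : G) * q * (n : G)⁻¹)⁻¹
            = (n : G) * ((q : G) * ((n : G)⁻¹ * X.b * n) * (q : G)⁻¹) * (n : G)⁻¹ := by group
          _ = X.b := by rw [e', ← conj_inv, hqb, ← conj_inv, e, inv_inv]⟩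
  have hR'p : IsPGroup 2 R' := by
    refine IsPGroup.of_card (n := 2 * 6 + 1) ?_
    rw [Nat.card_congr (Subgroup.subgroupOfEquivOfLe hRD).toEquiv, hRX,
      Subgroup.card_subtype, Subgroup.card_subtype]
    exact hAt.1.2.2.2.1
  -- an element with image of 2-power order acting as an inverting one
  have hin : ∀ (n : NY) (hnz : (n : G) ∈ Subgroup.centralizer ({X.z} : Set G))
      (hnb : (n : G) * X.b * (n : G)⁻¹ = X.b) (d : D),
      π n = (d : NY ⧸ (Subgroup.zpowers X.b).subgroupOf NY) →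
      X.θ ⟨n, hnz, Subgroup.mem_centralizer_singleton_iff.2 (mul_inv_eq_iff_eq_mul.1 hnb)⟩ = 1 → d ∈ R' := by
    intro n hnz hnb d hd hθ
    obtain ⟨q, hq, j, hj⟩ := X.θ_ker hθ
    have hqN : q ∈ NY := hCN ((hCYb _).2 hq.2)
    refine (hR'mem d).2 ⟨⟨q, hqN⟩, hq, ?_⟩
    rw [← hd]
    symm
    have hb : (⟨X.b ^ j, hCN (hYC (pow_mem (Subgroup.mem_zpowers _) j))⟩ : NY) ∈ π.ker :=
      (hπk _).2 (pow_mem (Subgroup.mem_zpowers _) j)
    rw [show n = ⟨q, hqN⟩ * ⟨X.b ^ j, hCN (hYC (pow_mem (Subgroup.mem_zpowers _) j))⟩ from Subtype.ext hj,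
      map_mul, MonoidHom.mem_ker.1 hb, mul_one]
  have hCR : Subgroup.centralizer (R' : Set D) ≤ R' := by
    intro d hd
    obtain ⟨n, hnz, hne⟩ := hlift d d.2
    have hcq : ∀ q ∈ X.Q ⊓ Subgroup.centralizer ({X.b} : Set G), (n : G) * q = q * n := by
      intro q hq
      have hqN : q ∈ NY := hCN ((hCYb _).2 hq.2)
      have hqD : π ⟨q, hqN⟩ ∈ D := hRD ((hRXmem _).2 ⟨_, hq, rfl⟩)
      have h1 : π ⁅n, (⟨q, hqN⟩ : NY)⁆ = 1 := by
        rw [map_commutatorElement, commutatorElement_eq_one_iff_mul_comm, hne]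
        exact (congrArg Subtype.val
          (Subgroup.mem_centralizer_iff.1 hd ⟨_, hqD⟩ ((hR'mem _).2 ⟨_, hq, rfl⟩))).symm
      refine commutatorElement_eq_one_iff_mul_comm.mp (X.not_mem_Q ((hπk _).1 h1) ?_)
      show (n : G) * q * (n : G)⁻¹ * q⁻¹ ∈ X.Q
      exact mul_mem (X.M.D.norm _ (Subgroup.mem_centralizer_singleton_iff.1 hnz) q hq.1) (inv_mem hq.1)
    rcases X.conj_cases n.2 with e | e
    · exact hin n hnz e d hne (X.θ_of_centralizes hcq)
    · exact absurd hcq (X.not_centralizing hnz e)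
  have hO : ∀ P : Subgroup D, P.Normal → IsPGroup 2 P → P ≤ R' := by
    intro P hPn hP2
    obtain ⟨-, -, -, -, -, -, -, -, hcore⟩ := exists_structure
    have hTN : ∀ a : X.T, (a : G) ∈ NY := fun a => hCN ((hCYb _).2 a.2.2)
    have hTD : ∀ a : X.T, π ⟨a, hTN a⟩ ∈ D := fun a => by
      refine Subgroup.mem_centralizer_singleton_iff.2 ?_
      rw [show zx = π (Subgroup.inclusion hCN zc) from rfl, ← map_mul, ← map_mul]
      exact congrArg π (Subtype.ext (by
        show (a : G) * (zc : G) = (zc : G) * (a : G)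
        rw [hzc]; exact Subgroup.mem_centralizer_singleton_iff.1 a.2.1))
    let jT : X.T →* D := MonoidHom.mk' (fun a => ⟨π ⟨a, hTN a⟩, hTD a⟩) fun a a' =>
      Subtype.ext (map_mul π ⟨(a : G), hTN a⟩ ⟨(a' : G), hTN a'⟩)
    have hbT : X.b ∈ X.T := ⟨X.hbz, Subgroup.mem_centralizer_singleton_iff.2 rfl⟩
    have hθ : ∀ a : X.T, jT a ∈ P → X.θ a = 1 := by
      haveI := (hPn.comap jT).map X.θ X.θ_surjective
      have hbot : (P.comap jT).map X.θ = ⊥ := by
        refine hcore _ inferInstance fun x => ?_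
        obtain ⟨a, ha, hax⟩ := x.2
        obtain ⟨k, hk⟩ := hP2 ⟨jT a, ha⟩
        refine ⟨k, Subtype.ext ?_⟩
        rw [SubmonoidClass.coe_pow, ← hax, ← map_pow]
        have h1 : jT (a ^ 2 ^ k) = 1 := by rw [map_pow]; exact congrArg Subtype.val hk
        have h2 : ((a ^ 2 ^ k : X.T) : G) ∈ Subgroup.zpowers X.b := (hπk _).1 (congrArg Subtype.val h1)
        obtain ⟨i, hi⟩ := Subgroup.mem_zpowers_iff.1 h2
        rw [show a ^ 2 ^ k = (⟨X.b, hbT⟩ : X.T) ^ i from Subtype.ext (by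
          rw [SubgroupClass.coe_zpow]; exact hi.symm), map_zpow, X.θ_b rfl, one_zpow]
        rfl
      intro a ha
      exact (Subgroup.mem_bot).1 (hbot ▸ Subgroup.mem_map_of_mem X.θ ha)
    intro d hd
    obtain ⟨n, hnz, hne⟩ := hlift d d.2
    rcases X.conj_cases n.2 with e | e
    · refine hin n hnz e d hne (hθ _ ?_)
      rwa [show jT ⟨n, hnz, Subgroup.mem_centralizer_singleton_iff.2 (mul_inv_eq_iff_eq_mul.1 e)⟩ = d from
        Subtype.ext hne]
    · exfalso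
      obtain ⟨k, hk⟩ := hP2 ⟨d, hd⟩
      refine X.not_two_power hnz e (k := k) (fun a => ?_) ?_
      · have hmem : (a : G) * n * (a : G)⁻¹ * (n : G)⁻¹ ∈ X.T := by
          refine ⟨Subgroup.mul_mem _ (Subgroup.mul_mem _ (Subgroup.mul_mem _ a.2.1 hnz) (Subgroup.inv_mem _ a.2.1))
            (Subgroup.inv_mem _ hnz), ?_⟩
          refine Subgroup.mem_centralizer_singleton_iff.2 (mul_inv_eq_iff_eq_mul.1 ?_)
          have ha : (a : G) * X.b * (a : G)⁻¹ = X.b :=
            mul_inv_eq_iff_eq_mul.2 (Subgroup.mem_centralizer_singleton_iff.1 a.2.2)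
          have ha' : (a : G)⁻¹ * X.b * a = X.b := by
            calc (a : G)⁻¹ * X.b * a = (a : G)⁻¹ * ((a : G) * X.b * (a : G)⁻¹) * a := by rw [ha]
              _ = X.b := by group
          have hn' : (n : G)⁻¹ * X.b * n = X.b⁻¹ := by
            calc (n : G)⁻¹ * X.b * n = (n : G)⁻¹ * ((n : G) * X.b * (n : G)⁻¹)⁻¹ * n := by rw [e, inv_inv]
              _ = X.b⁻¹ := by group
          calc (a : G) * n * (a : G)⁻¹ * (n : G)⁻¹ * X.b * ((a : G) * n * (a : G)⁻¹ * (n : G)⁻¹)⁻¹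
              = (a : G) * ((n : G) * ((a : G)⁻¹ * ((n : G)⁻¹ * X.b * n) * a) * (n : G)⁻¹) * (a : G)⁻¹ := by group
            _ = X.b := by
              rw [hn', show (a : G)⁻¹ * X.b⁻¹ * a = ((a : G)⁻¹ * X.b * a)⁻¹ by group, ha', ← conj_inv, e, inv_inv, ha]
        refine X.θ_ker (t := ⟨_, hmem⟩) (hθ _ ?_)
        rw [show jT ⟨_, hmem⟩ = jT a * d * (jT a)⁻¹ * d⁻¹ from Subtype.ext (by
          show π _ = π _ * (d : NY ⧸ (Subgroup.zpowers X.b).subgroupOf NY) * (π _)⁻¹ *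
            (d : NY ⧸ (Subgroup.zpowers X.b).subgroupOf NY)⁻¹
          rw [← hne, ← map_inv, ← map_inv, ← map_mul, ← map_mul, ← map_mul]; rfl)]
        exact mul_mem (hPn.conj_mem d hd _) (inv_mem hd)
      · have h1 : π (n ^ 2 ^ k) = 1 := by
          rw [map_pow, hne]
          simpa using congrArg (fun p : P => ((p : D) : NY ⧸ (Subgroup.zpowers X.b).subgroupOf NY)) hk
        simpa using (hπk _).1 h1
  rw [genFitting_eq_of hR'p hCR hO]
  exact Subgroup.map_subgroupOf_eq_of_le hRD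

end Ctx

end Cfsg.Agent.MonsterThree
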